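import Groth.Agent.P1Glue.Overlap
import Groth.Agent.Pi1Ext.RegPurity

/-!
Two finite algebras with the same sections on the standard opens have a common finite overalgebra
isomorphic to both away from `V(I)`.
-/

universe u

open Groth.Agent.P1Punct

set_option linter.style.haveILetI false

noncomputable section

namespace Groth.Agent.P1Glue

variable {A : Type u} [CommRing A] [IsNoetherianRing A] {l : ℕ} (g : Fin l → A)
variable {C : Type u} [CommRing C] [Algebra A C]

/-- A map to sections which is bijective on every standard open up to powers becomes an isomorphism away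
from `V(I)`. -/
theorem isoAway_of_sec {B : Type u} [CommRing B] [Algebra A B] (π : B →ₐ[A] ∀ i, L (C := C) g i)
    (hπ : ∀ b, π b ∈ sec (C := C) g) (hinj : ∀ i b, π b i = 0 → ∃ n : ℕ, g i ^ n • b = 0)
    (hsurj : ∀ i x, ∃ (n : ℕ) (b : B), g i ^ n • x = π b i) (R : Subalgebra A (∀ i, L (C := C) g i))
    (hR : ∀ x ∈ R, x ∈ sec (C := C) g) (hπR : ∀ b, π b ∈ R) (a : A) (ha : a ∈ (Ideal.span (Set.range g)).radical) :
    Pi1Ext.RegPurity.IsoAway (π.codRestrict R hπR) a := by
  obtain ⟨N, hN⟩ := ha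
  refine ⟨fun r => ?_, fun b hb => ?_⟩
  · obtain ⟨k, hk⟩ := exists_pow_smul_mem g (N := fun i => L (C := C) g i)
      (fun i j => (ρ₁ₐ g i j).toLinearMap) (fun i j => (ρ₂ₐ g i j).toLinearMap)
      (fun i j x hx => ρ₂_ker g i j x hx) π.toLinearMap (fun b => hπ b) hsurj r.1 (hR r.1 r.2)
    obtain ⟨b, hb⟩ := hk _ (Ideal.pow_mem_pow hN k)
    refine ⟨N * k, b, Subtype.ext ?_⟩
    rw [pow_mul]
    exact hb.symm
  · obtain ⟨k, hk⟩ := exists_pow_smul_eq_zero g (x := b) fun i => hinj i b (congrFun (congrArg Subtype.val hb) i)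
    exact ⟨N * k, by rw [pow_mul]; exact hk _ (Ideal.pow_mem_pow hN k)⟩

variable [Module.Finite A C]

theorem exists_common {B : Type u} [CommRing B] [Algebra A B] [Module.Finite A B]
    (π : B →ₐ[A] ∀ i, L (C := C) g i) (hπ : ∀ b, π b ∈ sec (C := C) g)
    (hinj : ∀ i b, π b i = 0 → ∃ n : ℕ, g i ^ n • b = 0)
    (hsurj : ∀ i x, ∃ (n : ℕ) (b : B), g i ^ n • x = π b i) :
    ∃ (R : Type u) (_ : CommRing R) (_ : Algebra A R) (_ : Module.Finite A R) (f₁ : C →ₐ[A] R) (f₂ : B →ₐ[A] R),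
      ∀ a ∈ (Ideal.span (Set.range g)).radical,
        Pi1Ext.RegPurity.IsoAway f₁ a ∧ Pi1Ext.RegPurity.IsoAway f₂ a := by
  let κ : C →ₐ[A] ∀ i, L (C := C) g i := IsScalarTower.toAlgHom A C _
  have hκ : ∀ c, κ c ∈ sec (C := C) g := fun c i j => by
    show ρ₁ g i j (algebraMap C _ c) = ρ₂ g i j (algebraMap C _ c)
    rw [ρ₁_algebraMap, ρ₂_algebraMap]
  let R := κ.range ⊔ π.range
  have hR : ∀ x ∈ R, x ∈ sec (C := C) g := by
    intro x hx
    let S : Subalgebra A (∀ i, L (C := C) g i) :=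
      { (sec (C := C) g).toSubsemiring with
        algebraMap_mem' := fun a i j => (ρ₁_commutes g i j a).trans (ρ₂_commutes g i j a).symm }
    exact (show R ≤ S from sup_le (by rintro _ ⟨c, rfl⟩; exact hκ c) (by rintro _ ⟨b, rfl⟩; exact hπ b)) hx
  haveI : Module.Finite A κ.range := Module.Finite.range κ.toLinearMap
  haveI : Module.Finite A π.range := Module.Finite.range π.toLinearMap
  haveI : Module.Finite A R := Subalgebra.finite_sup _ _
  have h1 : ∀ b, π b ∈ R := fun b => (le_sup_right : π.range ≤ R) ⟨b, rfl⟩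
  have h2 : ∀ c, κ c ∈ R := fun c => (le_sup_left : κ.range ≤ R) ⟨c, rfl⟩
  refine ⟨R, inferInstance, inferInstance, inferInstance, κ.codRestrict R h2, π.codRestrict R h1, fun a ha =>
    ⟨isoAway_of_sec g κ hκ (fun i c hc => ?_) (fun i x => ?_) R hR h2 a ha,
      isoAway_of_sec g π hπ hinj hsurj R hR h1 a ha⟩⟩
  · obtain ⟨⟨_, n, rfl⟩, hn⟩ := (IsLocalization.map_eq_zero_iff (Submonoid.powers (algebraMap A C (g i))) _ c).1 hc
    exact ⟨n, by rw [Algebra.smul_def, map_pow]; exact hn⟩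
  · obtain ⟨n, c, hc⟩ := IsLocalization.Away.surj (algebraMap A C (g i)) x
    exact ⟨n, c, by
      show _ = algebraMap C (L (C := C) g i) c
      rw [← hc, Algebra.smul_def, map_pow, IsScalarTower.algebraMap_apply A C (L (C := C) g i), mul_comm]⟩

end Groth.Agent.P1Glue
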