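import Groth.Agent.P1Glue.Sch
import Groth.Agent.P1Punct.Sch
import Groth.Agent.LC.CohAcyclic
import Groth.Agent.LC.CanonComplete
import Groth.Agent.S0239

/-!
Extension of finite étale covers of the punctured spectrum, through the completion.
-/

universe u

open CategoryTheory CategoryTheory.Limits AlgebraicGeometry IsLocalRing TensorProduct
open Groth.Agent.Pi1Ext.PuritySch

set_option linter.style.haveILetI false

noncomputable section

namespace Groth.Agent.P1Glue

variable {A : Type u} [CommRing A] [IsNoetherianRing A] [IsLocalRing A]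

variable (A) in
theorem completion_dense (n : ℕ) (t : AdicCompletion (maximalIdeal A) A) :
    ∃ a : A, t - algebraMap A (AdicCompletion (maximalIdeal A) A) a ∈
      (maximalIdeal A ^ n).map (algebraMap A (AdicCompletion (maximalIdeal A) A)) := by
  have fg : (maximalIdeal A).FG := IsNoetherian.noetherian _
  obtain ⟨a, ha⟩ := Submodule.mkQ_surjective _ (AdicCompletion.eval (maximalIdeal A) A n t)
  refine ⟨a, ?_⟩
  rw [← LocalCrit.smul_top_eq_map, AdicCompletion.pow_smul_top_eq_ker_eval fg, LinearMap.mem_ker, map_sub,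
    ← ha, sub_eq_zero]
  exact (AdicCompletion.eval_of _ _ n a).symm

variable (A) in
theorem completion_jac :
    (maximalIdeal A).map (algebraMap A (AdicCompletion (maximalIdeal A) A)) ≤ Ideal.jacobson ⊥ := by
  rw [← AdicCompletion.maximalIdeal_eq_map_of_fg (IsNoetherian.noetherian (maximalIdeal A)),
    IsLocalRing.jacobson_eq_maximalIdeal ⊥ bot_ne_top]

variable (A' : Type u) [CommRing A'] [Algebra A A'] [IsNoetherianRing A'] [IsLocalRing A']

/-- A power of `f` killing local cohomology still does so after flat base change. -/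
theorem exists_kills_baseChange [Module.Flat A A'] (hm : (maximalIdeal A).map (algebraMap A A') = maximalIdeal A')
    (f : A) (i : ℕ) (h : ∃ n : ℕ, ∀ x : LocCoh.H (maximalIdeal A) i A, f ^ n • x = 0) :
    ∃ n : ℕ, ∀ x : LocCoh.H (maximalIdeal A') i A', algebraMap A A' f ^ n • x = 0 := by
  obtain ⟨n, hn⟩ := h
  obtain ⟨e⟩ := LC.exists_baseChange (R' := A') (maximalIdeal A) i A
  rw [hm] at e
  let e' := ((localCohomology (maximalIdeal A') i).mapIso
    (LinearEquiv.toModuleIso (TensorProduct.AlgebraTensorModule.rid A A' A'))).toLinearEquiv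
  refine ⟨n, fun x => ?_⟩
  obtain ⟨y, rfl⟩ := (e.trans e').surjective x
  rw [← map_smul]
  convert map_zero (e.trans e')
  induction y with
  | zero => rw [smul_zero]
  | add u v hu hv => rw [smul_add, hu, hv, add_zero]
  | tmul a z => rw [← map_pow, algebraMap_smul, ← TensorProduct.tmul_smul, hn z, tmul_zero]

/-- The base change of the punctured spectrum is the punctured spectrum. -/
theorem range_punc (hm : (maximalIdeal A).map (algebraMap A A') = maximalIdeal A') :
    Set.range (pullback.snd (FEt.puncturedSpec A).ι (sp A A')).base = ((FEt.puncturedSpec A').1 : Set (PrimeSpectrum A')) := by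
  rw [Scheme.Pullback.range_snd, Scheme.Opens.range_ι]
  refine Set.ext fun (q : PrimeSpectrum A') => ?_
  show PrimeSpectrum.comap (algebraMap A A') q ≠ closedPoint A ↔ q ≠ closedPoint A'
  refine not_congr ⟨fun h => PrimeSpectrum.ext ?_, fun h => PrimeSpectrum.ext ?_⟩
  · refine le_antisymm (le_maximalIdeal q.2.ne_top) ?_
    show maximalIdeal A' ≤ q.asIdeal
    rw [← hm, Ideal.map_le_iff_le_comap]
    exact (congrArg PrimeSpectrum.asIdeal h).ge
  · refine le_antisymm (le_maximalIdeal (Ideal.IsPrime.ne_top inferInstance)) ?_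
    show maximalIdeal A ≤ q.asIdeal.comap (algebraMap A A')
    rw [h, ← Ideal.map_le_iff_le_comap, hm]
    rfl

/-- Restriction along a composite. -/
def compIso {X Y Z : Scheme.{u}} (f : X ⟶ Y) (g : Y ⟶ Z) (k : X ⟶ Z) (h : k = f ≫ g) (V : FEt.Cat Z) :
    (FEt.restrict k).obj V ≅ (FEt.restrict f).obj ((FEt.restrict g).obj V) :=
  (MorphismProperty.Over.pullbackComp f g k h).app V

variable {A'} in
theorem restrict_fullyFaithful_punc (hm : (maximalIdeal A).map (algebraMap A A') = maximalIdeal A')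
    (f : A') (hf : f ∈ maximalIdeal A') [HenselianRing A' (Ideal.span {f})]
    (h1 : ∃ n : ℕ, ∀ x : LocCoh.H (maximalIdeal A') 1 A', f ^ n • x = 0)
    (h2 : ∃ n : ℕ, ∀ x : LocCoh.H (maximalIdeal A') 2 A', f ^ n • x = 0) :
    (FEt.restrict (pullback.fst (pullback.snd (FEt.puncturedSpec A).ι (sp A A'))
      (Spec.map (CommRingCat.ofHom (Ideal.Quotient.mk (Ideal.span {f})))))).Full ∧
    (FEt.restrict (pullback.fst (pullback.snd (FEt.puncturedSpec A).ι (sp A A'))
      (Spec.map (CommRingCat.ofHom (Ideal.Quotient.mk (Ideal.span {f})))))).Faithful := by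
  let p₂ := pullback.snd (FEt.puncturedSpec A).ι (sp A A')
  haveI : IsClosedImmersion (Spec.map (CommRingCat.ofHom (Ideal.Quotient.mk (Ideal.span {f})))) :=
    IsClosedImmersion.spec_of_surjective _ Ideal.Quotient.mk_surjective
  let θ := IsOpenImmersion.lift (FEt.puncturedSpec A').ι p₂
    (by rw [Scheme.Opens.range_ι]; exact (range_punc A' hm).le)
  have hθ : θ ≫ (FEt.puncturedSpec A').ι = p₂ := IsOpenImmersion.lift_fac _ _ _
  haveI : IsOpenImmersion θ := by
    haveI : IsOpenImmersion (θ ≫ (FEt.puncturedSpec A').ι) := by rw [hθ]; infer_instance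
    exact IsOpenImmersion.of_comp θ (FEt.puncturedSpec A').ι
  haveI : Surjective θ := by
    refine ⟨fun y => ?_⟩
    have hy : (FEt.puncturedSpec A').ι.base y ∈ Set.range p₂.base := (range_punc A' hm).ge y.2
    obtain ⟨x, hx⟩ := hy
    refine ⟨x, (FEt.puncturedSpec A').ι.isOpenEmbedding.injective ?_⟩
    rw [← Scheme.Hom.comp_apply, hθ]
    exact hx
  haveI : IsIso θ := (isIso_iff_isOpenImmersion_and_surjective θ).2 ⟨inferInstance, inferInstance⟩
  have hrange : Set.range (pullback.fst p₂ (Spec.map (CommRingCat.ofHom (Ideal.Quotient.mk (Ideal.span {f}))))).base =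
      p₂.base ⁻¹' PrimeSpectrum.zeroLocus {f} := by
    rw [Scheme.Pullback.range_fst, HensCouple7.range_specMap_mk, PrimeSpectrum.zeroLocus_span]
  have key : ∀ W : FEt.Cat (punc A A'), HensCouple7.Lifts (W.hom.base ⁻¹' (p₂.base ⁻¹' PrimeSpectrum.zeroLocus {f})) := by
    intro W
    let W' : FEt.Cat (FEt.puncturedSpec A' : Scheme.{u}) := MorphismProperty.Over.mk ⊤ (W.hom ≫ θ)
      (by rw [MorphismProperty.cancel_right_of_respectsIso (P := FEt.prop)]; exact W.prop)
    have h := P1Punct.lifts_cover f hf h1 h2 W'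
    have he : (W.hom ≫ θ) ≫ (FEt.puncturedSpec A').ι = W.hom ≫ p₂ := by rw [Category.assoc, hθ]
    rw [show W'.hom ≫ (FEt.puncturedSpec A').ι = W.hom ≫ p₂ from he] at h
    exact h
  refine P1Prop.restrict_fullyFaithful_of_lifts _ ?_ fun W => ?_
  · rw [hrange]
    exact key (MorphismProperty.Over.mk ⊤ (𝟙 _) (MorphismProperty.id_mem FEt.prop _))
  · rw [hrange]
    exact key W

set_option backward.isDefEq.respectTransparency false in
/-- The extension theorem. -/
theorem exists_extension_of_hypersurface (f : A) (hf : f ∈ maximalIdeal A)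
    (h1 : ∃ n : ℕ, ∀ x : LocCoh.H (maximalIdeal A) 1 A, f ^ n • x = 0)
    (h2 : ∃ n : ℕ, ∀ x : LocCoh.H (maximalIdeal A) 2 A, f ^ n • x = 0)
    (V : FEt.Cat (FEt.puncturedSpec A : Scheme.{u})) (Y₀ : FEt.Cat (Spec (CommRingCat.of (A ⧸ Ideal.span {f}))))
    (e₀ : (FEt.restrict (pullback.snd (FEt.puncturedSpec A).ι (Spec.map (CommRingCat.ofHom (Ideal.Quotient.mk (Ideal.span {f})))))).obj Y₀ ≅
      (FEt.restrict (pullback.fst (FEt.puncturedSpec A).ι (Spec.map (CommRingCat.ofHom (Ideal.Quotient.mk (Ideal.span {f})))))).obj V) :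
    ∃ Y : FEt.Cat (Spec (CommRingCat.of A)), Nonempty ((FEt.restrict (FEt.puncturedSpec A).ι).obj Y ≅ V) := by
  let A' := AdicCompletion (maximalIdeal A) A
  have fg : (maximalIdeal A).FG := IsNoetherian.noetherian _
  haveI : IsNoetherianRing A' := LC.Canon.isNoetherianRing_completion
  haveI : Module.FaithfullyFlat A A' := LC.Canon.faithfullyFlat_completion
  haveI : IsAdicComplete (maximalIdeal A') A' := inferInstance
  have hm : (maximalIdeal A).map (algebraMap A A') = maximalIdeal A' :=
    (AdicCompletion.maximalIdeal_eq_map_of_fg fg).symm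
  let f' := algebraMap A A' f
  have hf' : f' ∈ maximalIdeal A' := hm ▸ Ideal.mem_map_of_mem _ hf
  haveI : HenselianRing A' (maximalIdeal A') := inferInstance
  haveI : HenselianRing A' (Ideal.span {f'}) :=
    Hensel.henselianRing_of_le (J := maximalIdeal A') ((Ideal.span_singleton_le_iff_mem _).2 hf')
  let s := Spec.map (CommRingCat.ofHom (Ideal.Quotient.mk (Ideal.span {f'})))
  let mk := Spec.map (CommRingCat.ofHom (Ideal.Quotient.mk (Ideal.span {f})))
  let q : A ⧸ Ideal.span {f} →+* A' ⧸ Ideal.span {f'} := Ideal.quotientMap _ (algebraMap A A')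
    ((Ideal.span_singleton_le_iff_mem _).2 (Ideal.mem_span_singleton_self f'))
  let a₀ := Spec.map (CommRingCat.ofHom q)
  have hsq : s ≫ sp A A' = a₀ ≫ mk := by
    rw [← Spec.map_comp, ← Spec.map_comp]
    refine congrArg Spec.map ?_
    ext x
    rfl
  haveI := S0239.result A' (Ideal.span {f'})
  let Y' := (FEt.restrict s).objPreimage ((FEt.restrict a₀).obj Y₀)
  let eY : (FEt.restrict s).obj Y' ≅ (FEt.restrict a₀).obj Y₀ := (FEt.restrict s).objObjPreimageIso _
  let p₁ := pullback.fst (FEt.puncturedSpec A).ι (sp A A')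
  let p₂ := pullback.snd (FEt.puncturedSpec A).ι (sp A A')
  let i' := pullback.fst p₂ s
  let i₂ := pullback.snd p₂ s
  let j : pullback p₂ s ⟶ pullback (FEt.puncturedSpec A).ι mk := pullback.lift (i' ≫ p₁) (i₂ ≫ a₀) (by
    rw [Category.assoc, Category.assoc, pullback.condition, reassoc_of% pullback.condition (f := p₂) (g := s), hsq])
  let e₁ : (FEt.restrict i').obj ((FEt.restrict p₂).obj Y') ≅ (FEt.restrict i').obj ((FEt.restrict p₁).obj V) :=
    (compIso i' p₂ (i₂ ≫ s) pullback.condition.symm Y').symm ≪≫ compIso i₂ s (i₂ ≫ s) rfl Y' ≪≫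
    (FEt.restrict i₂).mapIso eY ≪≫ (compIso i₂ a₀ (i₂ ≫ a₀) rfl Y₀).symm ≪≫
    compIso j (pullback.snd _ _) (i₂ ≫ a₀) (pullback.lift_snd _ _ _).symm Y₀ ≪≫ (FEt.restrict j).mapIso e₀ ≪≫
    (compIso j (pullback.fst _ _) (i' ≫ p₁) (pullback.lift_fst _ _ _).symm V).symm ≪≫ compIso i' p₁ (i' ≫ p₁) rfl V
  obtain ⟨hfull, hfaith⟩ := restrict_fullyFaithful_punc hm f' hf' (exists_kills_baseChange A' hm f 1 h1)
    (exists_kills_baseChange A' hm f 2 h2)
  exact exists_extension (completion_dense A) (completion_jac A) V Y'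
    ((Functor.FullyFaithful.ofFullyFaithful (FEt.restrict i')).preimageIso e₁)

end Groth.Agent.P1Glue
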