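import Groth.Agent.P1Glue.Overlap
import Mathlib.RingTheory.Finiteness.Descent

/-!
Gluing a finite algebra on the complement of `V(I)` with one over a faithfully flat, `I`-adically
dense extension.
-/

universe u

open TensorProduct Groth.Agent.P1Punct

set_option linter.style.haveILetI false

noncomputable section

namespace Groth.Agent.P1Glue

variable {A : Type u} [CommRing A] [IsNoetherianRing A] {l : ℕ} (g : Fin l → A)
variable (A' : Type u) [CommRing A'] [Algebra A A'] [Module.FaithfullyFlat A A']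

omit [IsNoetherianRing A] in
theorem lTensor_ρ₂_ker {C : Type u} [CommRing C] [Algebra A C] (i j : Fin l)
    (x : A' ⊗[A] L (C := C) g j) (hx : (ρ₂ₐ g i j).toLinearMap.lTensor A' x = 0) :
    ∃ n : ℕ, g i ^ n • x = 0 := by
  have hex := Module.Flat.lTensor_exact A' (LinearMap.exact_subtype_ker_map (ρ₂ₐ (C := C) g i j).toLinearMap)
  obtain ⟨w, rfl⟩ := (hex x).1 hx
  clear hx
  induction w with
  | zero => exact ⟨0, by rw [map_zero, smul_zero]⟩
  | add u v hu hv =>
    obtain ⟨n, hn⟩ := hu
    obtain ⟨m, hm⟩ := hv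
    exact ⟨n + m, by
      rw [map_add, smul_add, pow_add, mul_smul, mul_smul, hm, smul_comm, hn, smul_zero, smul_zero, add_zero]⟩
  | tmul a x =>
    obtain ⟨n, hn⟩ := ρ₂_ker g i j x.1 x.2
    exact ⟨n, by rw [LinearMap.lTensor_tmul, ← TensorProduct.tmul_smul, Submodule.subtype_apply, hn,
      TensorProduct.tmul_zero]⟩

set_option maxHeartbeats 1000000 in
theorem exists_descent
    (hd : ∀ (n : ℕ) (t : A'), ∃ s : A, t - algebraMap A A' s ∈ (Ideal.span (Set.range g) ^ n).map (algebraMap A A'))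
    (hjac : (Ideal.span (Set.range g)).map (algebraMap A A') ≤ Ideal.jacobson ⊥)
    (C : Type u) [CommRing C] [Algebra A C]
    (B' : Type u) [CommRing B'] [Algebra A B'] [Algebra A' B'] [IsScalarTower A A' B'] [Module.Finite A' B']
    (φ : ∀ i, B' →ₐ[A'] A' ⊗[A] L (C := C) g i)
    (hcomp : ∀ i j b, Algebra.TensorProduct.map (AlgHom.id A A') (ρ₁ₐ g i j) (φ i b) =
      Algebra.TensorProduct.map (AlgHom.id A A') (ρ₂ₐ g i j) (φ j b))
    (hinj : ∀ i b, φ i b = 0 → ∃ n : ℕ, g i ^ n • b = 0)
    (hsurj : ∀ i x, ∃ (n : ℕ) (b : B'), g i ^ n • x = φ i b) :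
    ∃ (B : Type u) (_ : CommRing B) (_ : Algebra A B) (_ : Module.Finite A B)
      (_ : A' ⊗[A] B ≃ₐ[A'] B') (π : B →ₐ[A] ∀ i, L (C := C) g i),
      (∀ b, π b ∈ sec (C := C) g) ∧ (∀ i b, π b i = 0 → ∃ n : ℕ, g i ^ n • b = 0) ∧
      (∀ i x, ∃ (n : ℕ) (b : B), g i ^ n • x = π b i) := by
  classical
  let I : Ideal A := Ideal.span (Set.range g)
  let ι := fun i => (Algebra.TensorProduct.includeRight : L (C := C) g i →ₐ[A] A' ⊗[A] L (C := C) g i)
  have hι : ∀ i, Function.Injective (ι i) := fun i =>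
    Module.FaithfullyFlat.tensorProduct_mk_injective (A := A) (B := A') _
  let ι₂ := fun p => (Algebra.TensorProduct.includeRight : L₂ (C := C) g p →ₐ[A] A' ⊗[A] L₂ (C := C) g p)
  have hι₂ : ∀ p, Function.Injective (ι₂ p) := fun p =>
    Module.FaithfullyFlat.tensorProduct_mk_injective (A := A) (B := A') _
  let R₁ : ∀ i j, A' ⊗[A] L (C := C) g i →ₗ[A] A' ⊗[A] L₂ (C := C) g (i, j) := fun i j =>
    (ρ₁ₐ g i j).toLinearMap.lTensor A'
  let R₂ : ∀ i j, A' ⊗[A] L (C := C) g j →ₗ[A] A' ⊗[A] L₂ (C := C) g (i, j) := fun i j =>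
    (ρ₂ₐ g i j).toLinearMap.lTensor A'
  have hR₁ : ∀ i j (x : A' ⊗[A] L (C := C) g i), R₁ i j x = Algebra.TensorProduct.map (AlgHom.id A A') (ρ₁ₐ g i j) x :=
    fun i j x => by
      induction x using TensorProduct.induction_on with
      | zero => rw [map_zero, map_zero]
      | add x y hx hy => rw [map_add, map_add, hx, hy]
      | tmul a x => rfl
  have hR₂ : ∀ i j (x : A' ⊗[A] L (C := C) g j), R₂ i j x = Algebra.TensorProduct.map (AlgHom.id A A') (ρ₂ₐ g i j) x :=
    fun i j x => by
      induction x using TensorProduct.induction_on with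
      | zero => rw [map_zero, map_zero]
      | add x y hx hy => rw [map_add, map_add, hx, hy]
      | tmul a x => rfl
  let Φ' : B' →ₐ[A'] ∀ i, A' ⊗[A] L (C := C) g i := Pi.algHom A' _ φ
  let Φ : B' →ₗ[A] ∀ i, A' ⊗[A] L (C := C) g i := Φ'.toLinearMap.restrictScalars A
  have hΦ : ∀ m i j, R₁ i j (Φ m i) = R₂ i j (Φ m j) := fun m i j => by
    rw [hR₁, hR₂]; exact hcomp i j m
  have hker : ∀ i j x, R₂ i j x = 0 → ∃ n : ℕ, g i ^ n • x = 0 := lTensor_ρ₂_ker g A'
  have hlift : ∀ y : ∀ i, A' ⊗[A] L (C := C) g i, (∀ i j, R₁ i j (y i) = R₂ i j (y j)) →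
      ∃ k : ℕ, ∀ a ∈ I ^ k, a • y ∈ LinearMap.range Φ := fun y hy =>
    exists_pow_smul_mem g R₁ R₂ hker Φ hΦ hsurj y hy
  -- sections over `A'` come from sections over `A`
  let J : ℕ → Submodule A' B' := fun n => (I ^ n).map (algebraMap A A') • (⊤ : Submodule A' B')
  have hdense₀ : ∀ (n : ℕ) (z : A' ⊗[A] LinearMap.ker (δ (C := C) g)),
      ∃ (s : LinearMap.ker (δ (C := C) g)) (b : B'), b ∈ J n ∧
        ∀ i, (LinearMap.proj i ∘ₗ (LinearMap.ker (δ (C := C) g)).subtype).lTensor A' z =
          ι i (s.1 i) + φ i b := by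
    intro n z
    induction z with
    | zero => exact ⟨0, 0, zero_mem _, fun i => by simp⟩
    | add u v hu hv =>
      obtain ⟨s, b, hb, h⟩ := hu
      obtain ⟨s', b', hb', h'⟩ := hv
      refine ⟨s + s', b + b', add_mem hb hb', fun i => ?_⟩
      rw [map_add, h i, h' i, map_add, Submodule.coe_add, Pi.add_apply, map_add]
      abel
    | tmul a s =>
      let y : ∀ i, A' ⊗[A] L (C := C) g i := fun i => ι i (s.1 i)
      have hy : ∀ i j, R₁ i j (y i) = R₂ i j (y j) := fun i j => by
        show (1 : A') ⊗ₜ[A] ρ₁ g i j (s.1 i) = (1 : A') ⊗ₜ[A] ρ₂ g i j (s.1 j)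
        rw [(mem_ker_δ g).1 s.2 i j]
      obtain ⟨k, hk⟩ := hlift y hy
      obtain ⟨a₀, ha₀⟩ := hd (n + k) a
      have key : ∀ t ∈ (I ^ (n + k)).map (algebraMap A A'), ∃ b ∈ J n, ∀ i, t • y i = φ i b := by
        intro t ht
        rw [Ideal.map] at ht
        induction ht using Submodule.span_induction with
        | mem t ht =>
          obtain ⟨c, hc, rfl⟩ := ht
          rw [SetLike.mem_coe, pow_add] at hc
          induction hc using Submodule.mul_induction_on' with
          | mem_mul_mem α hα β hβ =>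
            obtain ⟨b, hb⟩ := hk β hβ
            refine ⟨algebraMap A A' α • b, Submodule.smul_mem_smul (Ideal.mem_map_of_mem _ hα) trivial, fun i => ?_⟩
            have hb' : φ i b = β • y i := congrFun hb i
            rw [map_smul, hb', map_mul, mul_smul, algebraMap_smul A' α, algebraMap_smul A' β,
              algebraMap_smul A' α]
          | add x hx x' hx' h h' =>
            obtain ⟨b, hb, hb'⟩ := h
            obtain ⟨c, hc, hc'⟩ := h'
            exact ⟨b + c, add_mem hb hc, fun i => by rw [map_add, add_smul, hb' i, hc' i, map_add]⟩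
        | zero => exact ⟨0, zero_mem _, fun i => by rw [zero_smul, map_zero]⟩
        | add x x' _ _ h h' =>
          obtain ⟨b, hb, hb'⟩ := h
          obtain ⟨c, hc, hc'⟩ := h'
          exact ⟨b + c, add_mem hb hc, fun i => by rw [add_smul, hb' i, hc' i, map_add]⟩
        | smul r x _ h =>
          obtain ⟨b, hb, hb'⟩ := h
          exact ⟨r • b, Submodule.smul_mem _ r hb, fun i => by rw [smul_assoc, hb' i, map_smul]⟩
      obtain ⟨b, hb, hb'⟩ := key _ ha₀
      refine ⟨a₀ • s, b, hb, fun i => ?_⟩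
      rw [← hb' i]
      show a ⊗ₜ[A] s.1 i = (1 : A') ⊗ₜ[A] (a₀ • s.1 i) + (a - algebraMap A A' a₀) • ((1 : A') ⊗ₜ[A] s.1 i)
      rw [TensorProduct.smul_tmul', smul_eq_mul, mul_one, TensorProduct.sub_tmul, ← TensorProduct.smul_tmul,
        Algebra.algebraMap_eq_smul_one (A := A') a₀, add_sub_cancel]
  -- the glued algebra
  let B : Subalgebra A B' := (Subalgebra.pi Set.univ fun i => (ι i).range).comap (Φ'.restrictScalars A)
  have hB : ∀ b, b ∈ B ↔ ∀ i, ∃ x, ι i x = φ i b := fun b => by
    simp [B, Subalgebra.mem_pi, Φ']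
  have hdense : ∀ (n : ℕ) (b' : B'), ∃ b ∈ B, b' - b ∈ J n := by
    intro n b'
    have hex : Function.Exact ((LinearMap.ker (δ (C := C) g)).subtype.lTensor A') ((δ (C := C) g).lTensor A') :=
      Module.Flat.lTensor_exact A' (LinearMap.exact_subtype_ker_map _)
    let w := (TensorProduct.piRight A A A' fun i => L (C := C) g i).symm (Φ b')
    have hw : (δ (C := C) g).lTensor A' w = 0 := by
      apply (TensorProduct.piRight A A A' fun p => L₂ (C := C) g p).injective
      rw [map_zero]
      funext p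
      have h1 : ∀ w : A' ⊗[A] (∀ i, L (C := C) g i),
          TensorProduct.piRight A A A' (fun p => L₂ (C := C) g p) ((δ (C := C) g).lTensor A' w) p =
          R₁ p.1 p.2 (TensorProduct.piRight A A A' (fun i => L (C := C) g i) w p.1) -
          R₂ p.1 p.2 (TensorProduct.piRight A A A' (fun i => L (C := C) g i) w p.2) := by
        intro w
        induction w with
        | zero => simp
        | add u v hu hv => simp only [map_add, Pi.add_apply, hu, hv]; abel
        | tmul a x => simp [δ, R₁, R₂, TensorProduct.tmul_sub]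
      rw [h1, LinearEquiv.apply_symm_apply, hΦ b' p.1 p.2, sub_self]
      rfl
    obtain ⟨z, hz⟩ := (hex w).1 hw
    obtain ⟨s, b, hb, hsb⟩ := hdense₀ n z
    refine ⟨b' - b, (hB _).2 fun i => ⟨s.1 i, ?_⟩, by rw [sub_sub_cancel]; exact hb⟩
    have h2 : ∀ z : A' ⊗[A] LinearMap.ker (δ (C := C) g),
        TensorProduct.piRight A A A' (fun i => L (C := C) g i) ((LinearMap.ker (δ (C := C) g)).subtype.lTensor A' z) i =
        (LinearMap.proj i ∘ₗ (LinearMap.ker (δ (C := C) g)).subtype).lTensor A' z := by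
      intro z
      induction z with
      | zero => simp
      | add u v hu hv => simp only [map_add, Pi.add_apply, hu, hv]
      | tmul a x => simp
    have h3 : φ i b' = ι i (s.1 i) + φ i b := by
      rw [← hsb i, ← h2, hz, LinearEquiv.apply_symm_apply]
      rfl
    rw [map_sub, h3, add_sub_cancel_right]
  let μ : A' ⊗[A] B →ₐ[A'] B' :=
    Algebra.TensorProduct.lift (Algebra.ofId A' B') B.val fun _ _ => .all _ _
  have hμ : ∀ b, μ (1 ⊗ₜ b) = b.1 := fun b => by simp [μ]
  have hμsurj : Function.Surjective μ := by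
    rw [← AlgHom.range_eq_top, eq_top_iff]
    intro b' _
    have h : (⊤ : Submodule A' B') ≤ LinearMap.range μ.toLinearMap := by
      refine Submodule.le_of_le_smul_of_le_jacobson_bot Module.Finite.fg_top hjac fun b' _ => ?_
      obtain ⟨b, hb, hbb⟩ := hdense 1 b'
      rw [← add_sub_cancel b b']
      refine Submodule.add_mem_sup ⟨1 ⊗ₜ ⟨b, hb⟩, hμ _⟩ ?_
      simpa [J] using hbb
    exact h (x := b') trivial
  -- the map to sections
  have hπ : ∀ (b : B) i, ∃ x, ι i x = φ i b.1 := fun b => (hB _).1 b.2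
  choose π₀ hπ₀ using hπ
  let π : B →ₐ[A] ∀ i, L (C := C) g i :=
    { toFun := π₀
      map_one' := funext fun i => hι i (by rw [hπ₀, Pi.one_apply, map_one]; exact map_one _)
      map_mul' := fun x y => funext fun i => hι i (by
        rw [hπ₀, Pi.mul_apply, map_mul, hπ₀, hπ₀]; exact map_mul _ _ _)
      map_zero' := funext fun i => hι i (by rw [hπ₀, Pi.zero_apply, map_zero]; exact map_zero _)
      map_add' := fun x y => funext fun i => hι i (by
        rw [hπ₀, Pi.add_apply, map_add, hπ₀, hπ₀]; exact map_add _ _ _)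
      commutes' := fun a => funext fun i => hι i (by
        rw [hπ₀, Pi.algebraMap_apply, AlgHom.commutes]
        exact ((φ i).restrictScalars A).commutes a) }
  have hπsec : ∀ b, π b ∈ sec (C := C) g := fun b i j => hι₂ (i, j) (by
    have := hΦ b.1 i j
    rw [show Φ b.1 i = ι i (π b i) from (hπ₀ b i).symm, show Φ b.1 j = ι j (π b j) from (hπ₀ b j).symm] at this
    exact this)
  have hπinj : ∀ i b, π b i = 0 → ∃ n : ℕ, g i ^ n • b = 0 := by
    intro i b hb
    obtain ⟨n, hn⟩ := hinj i b.1 (by rw [← hπ₀ b i, show π₀ b i = 0 from hb, map_zero])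
    exact ⟨n, Subtype.ext hn⟩
  have hμinj : Function.Injective μ := by
    rw [injective_iff_map_eq_zero]
    intro z hz
    have h1 : ∀ z i, TensorProduct.piRight A A A' (fun i => L (C := C) g i) (π.toLinearMap.lTensor A' z) i =
        φ i (μ z) := by
      intro z i
      induction z with
      | zero => simp
      | add u v hu hv => simp only [map_add, Pi.add_apply, hu, hv]
      | tmul a b =>
        simp only [μ, Algebra.TensorProduct.lift_tmul, map_mul, LinearMap.lTensor_tmul, Subalgebra.coe_val]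
        rw [show φ i b.1 = ι i (π b i) from (hπ₀ b i).symm]
        simp [ι, Algebra.TensorProduct.algebraMap_apply]
    have h2 : π.toLinearMap.lTensor A' z = 0 :=
      (TensorProduct.piRight A A A' fun i => L (C := C) g i).injective (funext fun i => by
        rw [h1, hz, map_zero, map_zero, Pi.zero_apply])
    obtain ⟨w, rfl⟩ := (Module.Flat.lTensor_exact A' (LinearMap.exact_subtype_ker_map π.toLinearMap) z).1 h2
    obtain ⟨k₀, hk₀⟩ : ∃ k₀ : LinearMap.ker π.toLinearMap, w = 1 ⊗ₜ k₀ := by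
      clear hz h2
      induction w with
      | zero => exact ⟨0, (tmul_zero _ _).symm⟩
      | add u v hu hv =>
        obtain ⟨a, rfl⟩ := hu
        obtain ⟨b, rfl⟩ := hv
        exact ⟨a + b, (tmul_add _ _ _).symm⟩
      | tmul a x =>
        obtain ⟨k, hk⟩ := exists_pow_smul_eq_zero g (x := x) fun i => by
          obtain ⟨n, hn⟩ := hπinj i x.1 (congrFun x.2 i)
          exact ⟨n, Subtype.ext hn⟩
        obtain ⟨a₀, ha₀⟩ := hd k a
        have key : ∀ t ∈ (I ^ k).map (algebraMap A A'), t ⊗ₜ[A] x = 0 := by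
          intro t ht
          rw [Ideal.map] at ht
          induction ht using Submodule.span_induction with
          | mem t ht =>
            obtain ⟨c, hc, rfl⟩ := ht
            rw [Algebra.algebraMap_eq_smul_one, TensorProduct.smul_tmul, hk c hc, tmul_zero]
          | zero => rw [zero_tmul]
          | add x' y' _ _ hx hy => rw [add_tmul, hx, hy, add_zero]
          | smul r x' _ hx => rw [← TensorProduct.smul_tmul', hx, smul_zero]
        refine ⟨a₀ • x, ?_⟩
        rw [← sub_add_cancel a (algebraMap A A' a₀), add_tmul, key _ ha₀, zero_add,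
          Algebra.algebraMap_eq_smul_one, TensorProduct.smul_tmul]
    subst hk₀
    rw [LinearMap.lTensor_tmul, hμ] at hz
    rw [LinearMap.lTensor_tmul, Submodule.subtype_apply, show (k₀ : B) = 0 from Subtype.ext hz, tmul_zero]
  let e : A' ⊗[A] B ≃ₐ[A'] B' := AlgEquiv.ofBijective μ ⟨hμinj, hμsurj⟩
  haveI : Module.Finite A' (A' ⊗[A] B) := Module.Finite.equiv e.symm.toLinearEquiv
  haveI : Module.Finite A B := Module.Finite.of_finite_tensorProduct_of_faithfullyFlat A'
  refine ⟨B, inferInstance, inferInstance, inferInstance, e, π, hπsec, hπinj, fun i x => ?_⟩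
  obtain ⟨m, c, hc⟩ := IsLocalization.Away.surj (algebraMap A C (g i)) x
  let y : ∀ j, A' ⊗[A] L (C := C) g j := fun j => ι j (algebraMap C (L (C := C) g j) c)
  obtain ⟨k, hk⟩ := hlift y fun i j => by
    show (1 : A') ⊗ₜ[A] ρ₁ g i j _ = (1 : A') ⊗ₜ[A] ρ₂ g i j _
    rw [ρ₁_algebraMap, ρ₂_algebraMap]
  obtain ⟨b', hb'⟩ := hk (g i ^ k) (Ideal.pow_mem_pow (Ideal.subset_span (Set.mem_range_self i)) k)
  have hb : ∀ j, φ j b' = ι j (g i ^ k • algebraMap C (L (C := C) g j) c) := fun j => by
    rw [map_smul]; exact congrFun hb' j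
  refine ⟨k + m, ⟨b', (hB _).2 fun j => ⟨_, (hb j).symm⟩⟩, hι i ?_⟩
  show ι i _ = ι i (π₀ _ i)
  rw [hπ₀ _ i, hb i, pow_add, mul_smul, ← hc, Algebra.smul_def (g i ^ m), map_pow,
    ← IsScalarTower.algebraMap_apply, mul_comm]

end Groth.Agent.P1Glue
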