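import Groth.Agent.P1Punct.Alg
import Mathlib.RingTheory.Flat.FaithfullyFlat.Algebra
import Mathlib.LinearAlgebra.TensorProduct.Pi

/-!
Families on the standard opens which agree on overlaps: generalities used for gluing along the
complement of `V(I)`.
-/

universe u

open TensorProduct

set_option linter.style.haveILetI false

namespace Groth.Agent.P1Glue

variable {A : Type u} [CommRing A] [IsNoetherianRing A] {l : ℕ} (g : Fin l → A)

/-- A family agreeing on overlaps, multiplied by a power of the ideal, lies in the image of a map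
which is surjective on each open up to powers. -/
theorem exists_pow_smul_mem {M : Type u} [AddCommGroup M] [Module A M] {N : Fin l → Type u}
    [∀ i, AddCommGroup (N i)] [∀ i, Module A (N i)] {N₂ : Fin l → Fin l → Type u}
    [∀ i j, AddCommGroup (N₂ i j)] [∀ i j, Module A (N₂ i j)]
    (r₁ : ∀ i j, N i →ₗ[A] N₂ i j) (r₂ : ∀ i j, N j →ₗ[A] N₂ i j)
    (hker : ∀ i j x, r₂ i j x = 0 → ∃ n : ℕ, g i ^ n • x = 0)
    (Φ : M →ₗ[A] ∀ i, N i) (hΦ : ∀ m i j, r₁ i j (Φ m i) = r₂ i j (Φ m j))
    (hsurj : ∀ i x, ∃ (n : ℕ) (m : M), g i ^ n • x = Φ m i)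
    (y : ∀ i, N i) (hy : ∀ i j, r₁ i j (y i) = r₂ i j (y j)) :
    ∃ k : ℕ, ∀ a ∈ Ideal.span (Set.range g) ^ k, a • y ∈ LinearMap.range Φ := by
  classical
  let J : Ideal A := (LinearMap.range Φ).comap (LinearMap.toSpanSingleton A _ y)
  have hle : Ideal.span (Set.range g) ≤ J.radical := by
    refine Ideal.span_le.2 ?_
    rintro _ ⟨i, rfl⟩
    obtain ⟨n, m, hm⟩ := hsurj i (y i)
    have hd : ∀ j, ∃ P : ℕ, g i ^ P • (g i ^ n • y j - Φ m j) = 0 := fun j => by
      refine hker i j _ ?_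
      rw [map_sub, map_smul, ← hy i j, ← hΦ m i j, ← map_smul, hm, sub_self]
    choose P hP using hd
    refine ⟨Finset.univ.sup P + n, LinearMap.mem_range.2 ⟨g i ^ Finset.univ.sup P • m, ?_⟩⟩
    rw [LinearMap.toSpanSingleton_apply, map_smul, pow_add, mul_smul]
    refine (sub_eq_zero.1 ?_).symm
    rw [← smul_sub]
    funext j
    obtain ⟨t, ht⟩ := Nat.exists_eq_add_of_le' (Finset.le_sup (f := P) (Finset.mem_univ j))
    rw [Pi.smul_apply, Pi.sub_apply, Pi.smul_apply, ht, pow_add, mul_smul, hP j, smul_zero, Pi.zero_apply]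
  obtain ⟨k, hk⟩ := Ideal.exists_pow_le_of_le_radical_of_fg hle (IsNoetherian.noetherian _)
  exact ⟨k, fun a ha => hk ha⟩

/-- Every element killed on all the opens is killed by a power of the ideal. -/
theorem exists_pow_smul_eq_zero {M : Type u} [AddCommGroup M] [Module A M] {x : M}
    (h : ∀ i, ∃ n : ℕ, g i ^ n • x = 0) :
    ∃ k : ℕ, ∀ a ∈ Ideal.span (Set.range g) ^ k, a • x = 0 := by
  let J : Ideal A := LinearMap.ker (LinearMap.toSpanSingleton A M x)
  have hle : Ideal.span (Set.range g) ≤ J.radical := by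
    refine Ideal.span_le.2 ?_
    rintro _ ⟨i, rfl⟩
    exact h i
  obtain ⟨k, hk⟩ := Ideal.exists_pow_le_of_le_radical_of_fg hle (IsNoetherian.noetherian _)
  exact ⟨k, fun a ha => hk ha⟩

section Overlap

open P1Punct

variable {C : Type u} [CommRing C] [Algebra A C]

omit [IsNoetherianRing A] in
theorem ρ₁_commutes (i j : Fin l) (a : A) :
    ρ₁ g i j (algebraMap A (L (C := C) g i) a) = algebraMap A (L₂ (C := C) g (i, j)) a := by
  rw [IsScalarTower.algebraMap_apply A C (L (C := C) g i), ρ₁_algebraMap, ← IsScalarTower.algebraMap_apply]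

omit [IsNoetherianRing A] in
theorem ρ₂_commutes (i j : Fin l) (a : A) :
    ρ₂ g i j (algebraMap A (L (C := C) g j) a) = algebraMap A (L₂ (C := C) g (i, j)) a := by
  rw [IsScalarTower.algebraMap_apply A C (L (C := C) g j), ρ₂_algebraMap, ← IsScalarTower.algebraMap_apply]

/-- Restriction to an overlap, as an algebra map. -/
noncomputable def ρ₁ₐ (i j : Fin l) : L (C := C) g i →ₐ[A] L₂ (C := C) g (i, j) :=
  { ρ₁ g i j with commutes' := ρ₁_commutes g i j }

/-- Restriction to an overlap, as an algebra map. -/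
noncomputable def ρ₂ₐ (i j : Fin l) : L (C := C) g j →ₐ[A] L₂ (C := C) g (i, j) :=
  { ρ₂ g i j with commutes' := ρ₂_commutes g i j }

omit [IsNoetherianRing A] in
theorem ρ₂_ker (i j : Fin l) (x : L (C := C) g j) (h : ρ₂ g i j x = 0) : ∃ n : ℕ, g i ^ n • x = 0 := by
  obtain ⟨n, c, hc⟩ := IsLocalization.Away.surj (algebraMap A C (g j)) x
  have h1 : algebraMap C (L₂ (C := C) g (i, j)) c = algebraMap C _ 0 := by
    rw [← ρ₂_algebraMap g i j c, ← hc, map_mul, h, zero_mul, map_zero]
  obtain ⟨⟨_, P, rfl⟩, hP⟩ := (IsLocalization.eq_iff_exists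
    (Submonoid.powers ((algebraMap A C (g i)) * algebraMap A C (g j))) _).1 h1
  have h2 := congrArg (algebraMap C (L (C := C) g j)) hP
  simp only [mul_zero, map_zero, map_mul, map_pow] at h2
  refine ⟨P, ?_⟩
  have hu := (IsLocalization.Away.algebraMap_isUnit (S := L (C := C) g j) (algebraMap A C (g j))).pow (P + n)
  refine hu.mul_left_cancel ?_
  rw [mul_zero, Algebra.smul_def, map_pow, IsScalarTower.algebraMap_apply A C (L (C := C) g j)]
  rw [← hc] at h2
  linear_combination h2

/-- Compatible families as a kernel. -/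
noncomputable def δ : (∀ i, L (C := C) g i) →ₗ[A] (∀ p, L₂ (C := C) g p) :=
  LinearMap.pi fun p => (ρ₁ₐ g p.1 p.2).toLinearMap.comp (LinearMap.proj p.1) -
    (ρ₂ₐ g p.1 p.2).toLinearMap.comp (LinearMap.proj p.2)

omit [IsNoetherianRing A] in
theorem mem_ker_δ {x : ∀ i, L (C := C) g i} : x ∈ LinearMap.ker (δ (C := C) g) ↔ x ∈ sec (C := C) g := by
  rw [LinearMap.mem_ker]
  refine ⟨fun h i j => sub_eq_zero.1 (congrFun h (i, j)), fun h => funext fun p => sub_eq_zero.2 (h p.1 p.2)⟩

end Overlap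

end Groth.Agent.P1Glue
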