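import Groth.Agent.P1Glue.Descent
import Groth.Agent.P1Glue.Common
import Groth.Agent.Pi1Ext.PuritySch
import Mathlib.RingTheory.Etale.Descent

/-!
A finite étale cover of the punctured spectrum extends if it does so over a faithfully flat dense
extension.
-/

universe u

open CategoryTheory CategoryTheory.Limits AlgebraicGeometry IsLocalRing TensorProduct
open Groth.Agent.Pi1Ext.PuritySch Groth.Agent.Pi1Ext.RegPurity Groth.Agent.P1Punct

set_option linter.style.haveILetI false

noncomputable section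

namespace Groth.Agent.P1Glue

/-- A finite étale cover of an affine scheme is given by an algebra. -/
theorem exists_algebra (R : Type u) [CommRing R] (Y : FEt.Cat (Spec (CommRingCat.of R))) :
    ∃ (B : Type u) (_ : CommRing B) (_ : Algebra R B), Module.Finite R B ∧ Algebra.Etale R B ∧
      ∃ (h : FEt.prop (sp R B)),
        Nonempty (Y ≅ (MorphismProperty.Over.mk ⊤ (sp R B) h : FEt.Cat (Spec (CommRingCat.of R)))) := by
  let g : Y.left ⟶ Spec (CommRingCat.of R) := Y.hom
  haveI : IsFinite g := Y.prop.1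
  haveI : IsAffine Y.left := isAffine_of_isAffineHom g
  let φ := (Scheme.ΓSpecIso (CommRingCat.of R)).inv ≫ g.appTop
  letI : Algebra R Γ(Y.left, ⊤) := φ.hom.toAlgebra
  have hg : Y.left.isoSpec.hom ≫ sp R Γ(Y.left, ⊤) = g := by
    show Y.left.isoSpec.hom ≫ Spec.map φ = _
    rw [Spec.map_comp, ← Category.assoc, Scheme.isoSpec_hom_naturality, Category.assoc]
    simp [Scheme.isoSpec, toSpecΓ_SpecMap_ΓSpecIso_inv]
  have hp : FEt.prop (sp R Γ(Y.left, ⊤)) := by
    rw [← MorphismProperty.cancel_left_of_respectsIso (P := FEt.prop) Y.left.isoSpec.hom, hg]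
    exact Y.prop
  exact ⟨Γ(Y.left, ⊤), inferInstance, inferInstance, (fet_sp_iff.1 hp).1, (fet_sp_iff.1 hp).2, hp,
    ⟨MorphismProperty.Over.isoMk Y.left.isoSpec hg⟩⟩

variable {A : Type u} [CommRing A] [IsNoetherianRing A] [IsLocalRing A]
variable (A' : Type u) [CommRing A'] [Algebra A A']

/-- The base change of the punctured spectrum. -/
abbrev punc (A : Type u) [CommRing A] [IsLocalRing A] (A' : Type u) [CommRing A'] [Algebra A A'] : Scheme.{u} :=
  pullback (FEt.puncturedSpec A).ι (sp A A')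

variable {A'} in
theorem hom_ext_punc {C : Type u} [CommRing C] [Algebra A C] {T : Scheme.{u}}
    {s t : T ⟶ pullback (rest A C) (pullback.fst (FEt.puncturedSpec A).ι (sp A A'))}
    (h1 : s ≫ pullback.fst _ _ ≫ pullback.fst _ _ = t ≫ pullback.fst _ _ ≫ pullback.fst _ _)
    (h2 : s ≫ pullback.snd _ _ ≫ pullback.snd _ _ = t ≫ pullback.snd _ _ ≫ pullback.snd _ _) : s = t := by
  have h1' : s ≫ pullback.fst _ _ = t ≫ pullback.fst (rest A C) (pullback.fst (FEt.puncturedSpec A).ι (sp A A')) := by
    refine pullback.hom_ext (by simpa using h1) ?_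
    rw [← cancel_mono (FEt.puncturedSpec A).ι]
    simp only [Category.assoc, ← pullback.condition]
    rw [reassoc_of% h1]
  refine pullback.hom_ext h1' (pullback.hom_ext ?_ (by simpa using h2))
  simp only [Category.assoc, ← pullback.condition]
  rw [reassoc_of% h1']

theorem eq_of_eq_on_generators {A A' C L B : Type u} [CommRing A] [CommRing A'] [Algebra A A'] [CommRing C]
    [CommRing L] [Algebra A L] [Algebra C L] (M : Submonoid C) [IsLocalization M L] [CommRing B]
    (φ' : B →+* A' ⊗[A] L) (θ : A' ⊗[A] L →+* B)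
    (h0 : ∀ a, φ' (θ (algebraMap A' (A' ⊗[A] L) a)) = algebraMap A' (A' ⊗[A] L) a)
    (h2 : ∀ y, φ' (θ ((1 : A') ⊗ₜ[A] algebraMap C L y)) = (1 : A') ⊗ₜ[A] algebraMap C L y) (x : A' ⊗[A] L) :
    φ' (θ x) = x := by
  have h4 : (φ'.comp θ).comp (Algebra.TensorProduct.includeRight : L →ₐ[A] A' ⊗[A] L).toRingHom =
      (Algebra.TensorProduct.includeRight : L →ₐ[A] A' ⊗[A] L).toRingHom :=
    IsLocalization.ringHom_ext M (RingHom.ext h2)
  induction x using TensorProduct.induction_on with
  | zero => rw [map_zero, map_zero]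
  | add x y hx hy => rw [map_add, map_add, hx, hy]
  | tmul a y =>
    have h5 : a ⊗ₜ[A] y = algebraMap A' (A' ⊗[A] L) a * ((1 : A') ⊗ₜ[A] y) := by
      rw [Algebra.TensorProduct.algebraMap_apply, Algebra.TensorProduct.tmul_mul_tmul, mul_one, one_mul]
      rfl
    rw [h5, map_mul, map_mul, h0]
    exact congrArg _ (RingHom.congr_fun h4 y)

set_option maxHeartbeats 1600000 in
theorem exists_maps (C : Type u) [CommRing C] [Algebra A C] (B' : Type u) [CommRing B'] [Algebra A' B']
    [Algebra A B'] [IsScalarTower A A' B']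
    (t : pullback (rest A C) (pullback.fst (FEt.puncturedSpec A).ι (sp A A')) ≅
      pullback (sp A' B') (pullback.snd (FEt.puncturedSpec A).ι (sp A A')))
    (ht : t.hom ≫ pullback.snd _ _ = pullback.snd _ _)
    {l : ℕ} (g : Fin l → A) (hg : ∀ i, g i ∈ maximalIdeal A) :
    ∃ φ : ∀ i, B' →ₐ[A'] A' ⊗[A] L (C := C) g i,
      (∀ i j b, Algebra.TensorProduct.map (AlgHom.id A A') (ρ₁ₐ g i j) (φ i b) =
        Algebra.TensorProduct.map (AlgHom.id A A') (ρ₂ₐ g i j) (φ j b)) ∧
      (∀ i b, φ i b = 0 → ∃ n : ℕ, g i ^ n • b = 0) ∧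
      (∀ i x, ∃ (n : ℕ) (b : B'), g i ^ n • x = φ i b) := by
  let T := fun i => Spec (CommRingCat.of (A' ⊗[A] L (C := C) g i))
  have hAg : ∀ i, IsUnit (algebraMap A (A' ⊗[A] L (C := C) g i) (g i)) := fun i => by
    rw [IsScalarTower.algebraMap_apply A A' (A' ⊗[A] L (C := C) g i),
      ← (Algebra.TensorProduct.includeRight : L (C := C) g i →ₐ[A] A' ⊗[A] L (C := C) g i).commutes (g i) |>.trans
        (IsScalarTower.algebraMap_apply A A' _ (g i))]
    refine IsUnit.map _ ?_
    rw [IsScalarTower.algebraMap_apply A C (L (C := C) g i)]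
    exact IsLocalization.Away.algebraMap_isUnit _
  -- maps to the punctured spectrum
  have hU : ∀ (R : Type u) [CommRing R] [Algebra A R] (i : Fin l), IsUnit (algebraMap A R (g i)) →
      ∃ v : Spec (CommRingCat.of R) ⟶ (FEt.puncturedSpec A : Scheme.{u}), v ≫ (FEt.puncturedSpec A).ι = sp A R := by
    intro R _ _ i hu
    let k : Localization.Away (g i) →ₐ[A] R := IsLocalization.liftAlgHom
      (M := Submonoid.powers (g i)) (f := Algebra.ofId A R) (by rintro ⟨_, n, rfl⟩; simpa using hu.pow n)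
    refine ⟨Spec.map (CommRingCat.ofHom k.toRingHom) ≫ ρ (hg i), ?_⟩
    rw [Category.assoc, ρ_ι, ← Spec.map_comp]
    refine congrArg Spec.map ?_
    ext a
    exact k.commutes a
  choose v hv using fun i => hU (A' ⊗[A] L (C := C) g i) i (hAg i)
  let cT : ∀ i, C →ₐ[A] A' ⊗[A] L (C := C) g i := fun i =>
    (Algebra.TensorProduct.includeRight).comp (IsScalarTower.toAlgHom A C (L (C := C) g i))
  let q : ∀ i, T i ⟶ pullback (rest A C) (pullback.fst (FEt.puncturedSpec A).ι (sp A A')) := fun i => pullback.lift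
    (pullback.lift (Spec.map (CommRingCat.ofHom (cT i).toRingHom)) (v i) (by
      rw [hv, ← Spec.map_comp]
      refine congrArg Spec.map ?_
      ext a
      exact (cT i).commutes a))
    (pullback.lift (v i) (sp A' _) (by
      rw [hv, ← Spec.map_comp]
      rfl))
    (by rw [pullback.lift_snd, pullback.lift_fst])
  have hq1 : ∀ i, q i ≫ pullback.fst _ _ ≫ pullback.fst _ _ = Spec.map (CommRingCat.ofHom (cT i).toRingHom) := fun i => by
    rw [pullback.lift_fst_assoc, pullback.lift_fst]
  have hq2 : ∀ i, q i ≫ pullback.snd _ _ ≫ (pullback.snd (FEt.puncturedSpec A).ι (sp A A')) = sp A' _ := fun i => by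
    rw [pullback.lift_snd_assoc, pullback.lift_snd]
  let ψ := fun i => Spec.preimage (q i ≫ t.hom ≫ pullback.fst (sp A' B') (pullback.snd (FEt.puncturedSpec A).ι (sp A A')))
  have hψ : ∀ i, Spec.map (ψ i) = q i ≫ t.hom ≫ pullback.fst (sp A' B') (pullback.snd (FEt.puncturedSpec A).ι (sp A A')) := fun i => Spec.map_preimage _
  have hψc : ∀ i, CommRingCat.ofHom (algebraMap A' B') ≫ ψ i = CommRingCat.ofHom (algebraMap A' _) := fun i =>
    Spec.map_injective (by
      rw [Spec.map_comp, hψ, Category.assoc, Category.assoc, pullback.condition, reassoc_of% ht]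
      exact hq2 i)
  let φ : ∀ i, B' →ₐ[A'] A' ⊗[A] L (C := C) g i := fun i =>
    { (ψ i).hom with commutes' := fun a => ConcreteCategory.congr_hom (hψc i) a }
  have hφ : ∀ i, Spec.map (CommRingCat.ofHom (φ i).toRingHom) = q i ≫ t.hom ≫ pullback.fst (sp A' B') (pullback.snd (FEt.puncturedSpec A).ι (sp A A')) := hψ
  refine ⟨φ, fun i j b => ?_, ?_⟩
  · let m₁ := Algebra.TensorProduct.map (AlgHom.id A' A') (ρ₁ₐ (C := C) g i j)
    let m₂ := Algebra.TensorProduct.map (AlgHom.id A' A') (ρ₂ₐ (C := C) g i j)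
    have hQ : Spec.map (CommRingCat.ofHom m₁.toRingHom) ≫ q i = Spec.map (CommRingCat.ofHom m₂.toRingHom) ≫ q j := by
      refine hom_ext_punc ?_ ?_
      · simp only [Category.assoc, hq1]
        rw [← Spec.map_comp, ← Spec.map_comp]
        refine congrArg Spec.map ?_
        ext c
        show m₁ (1 ⊗ₜ algebraMap C _ c) = m₂ (1 ⊗ₜ algebraMap C _ c)
        simp only [m₁, m₂, Algebra.TensorProduct.map_tmul]
        exact congrArg _ ((ρ₁_algebraMap g i j c).trans (ρ₂_algebraMap g i j c).symm)
      · simp only [Category.assoc]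
        rw [hq2, hq2, ← Spec.map_comp, ← Spec.map_comp]
        refine congrArg Spec.map ?_
        ext a
        exact (m₁.commutes a).trans (m₂.commutes a).symm
    have h1 : CommRingCat.ofHom (φ i).toRingHom ≫ CommRingCat.ofHom m₁.toRingHom =
        CommRingCat.ofHom (φ j).toRingHom ≫ CommRingCat.ofHom m₂.toRingHom := Spec.map_injective (by
      rw [Spec.map_comp, Spec.map_comp, hφ, hφ, reassoc_of% hQ])
    exact ConcreteCategory.congr_hom h1 b
  suffices key : ∀ i, ∃ θ : A' ⊗[A] L (C := C) g i →ₐ[A] Localization.Away (algebraMap A B' (g i)),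
      (∀ b, θ (φ i b) = algebraMap B' _ b) ∧ Function.Injective θ by
    refine ⟨fun i b hb => ?_, fun i x => ?_⟩
    · obtain ⟨θ, hθ, -⟩ := key i
      obtain ⟨⟨_, n, rfl⟩, hn⟩ := (IsLocalization.map_eq_zero_iff (Submonoid.powers (algebraMap A B' (g i)))
        (Localization.Away (algebraMap A B' (g i))) b).1 (by rw [← hθ b, hb, map_zero])
      exact ⟨n, by rw [Algebra.smul_def, map_pow]; exact hn⟩
    · obtain ⟨θ, hθ, hθi⟩ := key i
      obtain ⟨n, b, hb⟩ := IsLocalization.Away.surj (algebraMap A B' (g i)) (θ x)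
      refine ⟨n, b, hθi ?_⟩
      rw [hθ, ← hb, map_smul, Algebra.smul_def, map_pow, mul_comm,
        ← IsScalarTower.algebraMap_apply A B' (Localization.Away (algebraMap A B' (g i)))]
  intro i
  let Bg := Localization.Away (algebraMap A B' (g i))
  have huB : IsUnit (algebraMap A Bg (g i)) := by
    rw [IsScalarTower.algebraMap_apply A B' Bg]; exact IsLocalization.Away.algebraMap_isUnit _
  obtain ⟨w, hw⟩ := hU Bg i huB
  obtain ⟨s, hs1, hs2⟩ : ∃ s : Spec (CommRingCat.of Bg) ⟶ pullback (rest A C) (pullback.fst (FEt.puncturedSpec A).ι (sp A A')),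
      s ≫ t.hom ≫ pullback.fst _ _ = Spec.map (CommRingCat.ofHom (algebraMap B' Bg)) ∧
      s ≫ pullback.snd _ _ ≫ pullback.snd _ _ = sp A' Bg := by
    refine ⟨pullback.lift (Spec.map (CommRingCat.ofHom (algebraMap B' Bg))) (pullback.lift w (sp A' Bg) (by
      rw [hw, ← Spec.map_comp]
      refine congrArg Spec.map ?_
      ext a
      exact IsScalarTower.algebraMap_apply A A' Bg a)) (by
      rw [pullback.lift_snd, ← Spec.map_comp]
      refine congrArg Spec.map ?_
      ext a
      exact (IsScalarTower.algebraMap_apply A' B' Bg a).symm) ≫ t.inv, ?_, ?_⟩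
    · rw [Category.assoc, Iso.inv_hom_id_assoc, pullback.lift_fst]
    · have ht' : t.inv ≫ pullback.snd _ _ = pullback.snd _ _ := by rw [Iso.inv_comp_eq, ht]
      rw [Category.assoc, reassoc_of% ht', pullback.lift_snd_assoc, pullback.lift_snd]
  let c := Spec.preimage (s ≫ pullback.fst _ _ ≫ pullback.fst (sp A C) (FEt.puncturedSpec A).ι)
  have hcA : CommRingCat.ofHom (algebraMap A C) ≫ c = CommRingCat.ofHom (algebraMap A Bg) := Spec.map_injective (by
    rw [Spec.map_comp, Spec.map_preimage]
    simp only [Category.assoc]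
    rw [show pullback.fst (sp A C) (FEt.puncturedSpec A).ι ≫ Spec.map (CommRingCat.ofHom (algebraMap A C)) =
        pullback.snd (sp A C) (FEt.puncturedSpec A).ι ≫ (FEt.puncturedSpec A).ι from pullback.condition,
      pullback.condition_assoc, pullback.condition, reassoc_of% hs2, ← Spec.map_comp]
    refine congrArg Spec.map ?_
    ext a
    exact (IsScalarTower.algebraMap_apply A A' Bg a).symm)
  let c₀ : C →ₐ[A] Bg := { c.hom with commutes' := fun a => ConcreteCategory.congr_hom hcA a }
  let c₁ : L (C := C) g i →ₐ[A] Bg := IsLocalization.liftAlgHom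
    (M := Submonoid.powers (algebraMap A C (g i))) (f := c₀) (by
      rintro ⟨_, n, rfl⟩
      simp only [map_pow, AlgHom.commutes]
      exact huB.pow n)
  obtain ⟨θ, hθc⟩ : ∃ θ : A' ⊗[A] L (C := C) g i →ₐ[A'] Bg,
      ∀ x, θ ((1 : A') ⊗ₜ algebraMap C _ x) = c₀ x :=
    ⟨Algebra.TensorProduct.lift (Algebra.ofId A' Bg) c₁ fun _ _ => .all _ _, fun x => by
      simp [c₁, IsLocalization.lift_eq]⟩
  have hθq : Spec.map (CommRingCat.ofHom θ.toRingHom) ≫ q i = s := by
    refine hom_ext_punc ?_ ?_
    · simp only [Category.assoc, hq1]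
      rw [← Spec.map_comp, show s ≫ pullback.fst _ _ ≫ pullback.fst _ _ = Spec.map c from (Spec.map_preimage _).symm]
      refine congrArg Spec.map ?_
      ext x
      exact hθc x
    · simp only [Category.assoc]
      rw [hq2, hs2, ← Spec.map_comp]
      refine congrArg Spec.map ?_
      ext a
      exact θ.commutes a
  have hθφ : ∀ b, θ (φ i b) = algebraMap B' Bg b := fun b => by
    have h1 : CommRingCat.ofHom (φ i).toRingHom ≫ CommRingCat.ofHom θ.toRingHom =
        CommRingCat.ofHom (algebraMap B' Bg) := Spec.map_injective (by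
      rw [Spec.map_comp, hφ, reassoc_of% hθq]
      exact hs1)
    exact ConcreteCategory.congr_hom h1 b
  obtain ⟨φ', hφ'⟩ : ∃ φ' : Bg →+* A' ⊗[A] L (C := C) g i, ∀ b, φ' (algebraMap B' Bg b) = φ i b :=
    ⟨IsLocalization.Away.lift (algebraMap A B' (g i)) (g := (φ i).toRingHom) (by
      show IsUnit (φ i (algebraMap A B' (g i)))
      rw [show φ i (algebraMap A B' (g i)) = algebraMap A _ (g i) from ((φ i).restrictScalars A).commutes _]
      exact hAg i), fun b => IsLocalization.Away.lift_eq _ _ b⟩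
  have hq' : Spec.map (CommRingCat.ofHom φ') ≫ s = q i := by
    rw [← cancel_mono t.hom]
    refine pullback.hom_ext ?_ (pullback.hom_ext ?_ ?_)
    · simp only [Category.assoc]
      rw [hs1]
      rw [← hφ, ← Spec.map_comp]
      refine congrArg Spec.map ?_
      ext b
      exact hφ' b
    · rw [← cancel_mono (FEt.puncturedSpec A).ι]
      simp only [Category.assoc]
      rw [show pullback.fst (FEt.puncturedSpec A).ι (sp A A') ≫ (FEt.puncturedSpec A).ι =
        pullback.snd (FEt.puncturedSpec A).ι (sp A A') ≫ sp A A' from pullback.condition]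
      simp only [reassoc_of% ht]
      rw [reassoc_of% hs2, reassoc_of% (hq2 i), ← Spec.map_comp_assoc]
      refine congrArg (· ≫ sp A A') (congrArg Spec.map ?_)
      ext a
      show φ' (algebraMap A' Bg a) = _
      rw [IsScalarTower.algebraMap_apply A' B' Bg, hφ']
      exact (φ i).commutes a
    · simp only [Category.assoc, reassoc_of% ht]
      rw [hs2, hq2, ← Spec.map_comp]
      refine congrArg Spec.map ?_
      ext a
      show φ' (algebraMap A' Bg a) = _
      rw [IsScalarTower.algebraMap_apply A' B' Bg, hφ']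
      exact (φ i).commutes a
  refine ⟨θ.restrictScalars A, hθφ, Function.LeftInverse.injective (g := φ') fun x => ?_⟩
  have h2 : ∀ y, φ' (θ ((1 : A') ⊗ₜ algebraMap C _ y)) = (1 : A') ⊗ₜ algebraMap C _ y := by
    intro y
    have h3 : CommRingCat.ofHom (cT i).toRingHom ≫ CommRingCat.ofHom θ.toRingHom ≫ CommRingCat.ofHom φ' =
        CommRingCat.ofHom (cT i).toRingHom := Spec.map_injective (by
      rw [Spec.map_comp, Spec.map_comp, Category.assoc, ← hq1, reassoc_of% hθq, reassoc_of% hq'])
    exact ConcreteCategory.congr_hom h3 y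
  exact eq_of_eq_on_generators (Submonoid.powers (algebraMap A C (g i))) φ' θ.toRingHom (fun a => by
    rw [show θ.toRingHom (algebraMap A' _ a) = algebraMap A' Bg a from θ.commutes a,
      IsScalarTower.algebraMap_apply A' B' Bg, hφ']
    exact (φ i).commutes a) h2 x

variable {A'} in
/-- Extension descends along a faithfully flat dense extension. -/
theorem exists_extension [Module.FaithfullyFlat A A']
    (hd : ∀ (n : ℕ) (t : A'), ∃ s : A, t - algebraMap A A' s ∈ (maximalIdeal A ^ n).map (algebraMap A A'))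
    (hjac : (maximalIdeal A).map (algebraMap A A') ≤ Ideal.jacobson ⊥)
    (V : FEt.Cat (FEt.puncturedSpec A : Scheme.{u})) (Y' : FEt.Cat (Spec (CommRingCat.of A')))
    (e : (FEt.restrict (pullback.snd (FEt.puncturedSpec A).ι (sp A A'))).obj Y' ≅
      (FEt.restrict (pullback.fst (FEt.puncturedSpec A).ι (sp A A'))).obj V) :
    ∃ Y : FEt.Cat (Spec (CommRingCat.of A)), Nonempty ((FEt.restrict (FEt.puncturedSpec A).ι).obj Y ≅ V) := by
  obtain ⟨C, _, _, _, hC, ⟨eV⟩⟩ := exists_finite_model V
  obtain ⟨B', _, _, hfin', het', hp', ⟨eY⟩⟩ := exists_algebra A' Y'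
  letI : Algebra A B' := ((algebraMap A' B').comp (algebraMap A A')).toAlgebra
  haveI : IsScalarTower A A' B' := IsScalarTower.of_algebraMap_eq fun _ => rfl
  let e' := (FEt.restrict (pullback.fst (FEt.puncturedSpec A).ι (sp A A'))).mapIso eV ≪≫ e.symm ≪≫
    (FEt.restrict (pullback.snd (FEt.puncturedSpec A).ι (sp A A'))).mapIso eY
  let t : pullback (rest A C) (pullback.fst (FEt.puncturedSpec A).ι (sp A A')) ≅
      pullback (sp A' B') (pullback.snd (FEt.puncturedSpec A).ι (sp A A')) :=
    (MorphismProperty.Over.forget _ _ _ ⋙ Over.forget _).mapIso e'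
  have ht : t.hom ≫ pullback.snd _ _ = pullback.snd _ _ := MorphismProperty.Over.w e'.hom
  obtain ⟨l, g, hg⟩ := Submodule.fg_iff_exists_fin_generating_family.1 (IsNoetherian.noetherian (maximalIdeal A))
  have hgm : ∀ i, g i ∈ maximalIdeal A := fun i => hg.le (Submodule.subset_span (Set.mem_range_self i))
  obtain ⟨φ, hcomp, hinj, hsurj⟩ := exists_maps A' C B' t ht g hgm
  have hI : Ideal.span (Set.range g) = maximalIdeal A := hg
  obtain ⟨B, _, _, _, eB, π, hπ, hπi, hπs⟩ :=
    exists_descent g A' (by rw [hI]; exact hd) (by rw [hI]; exact hjac) C B' φ hcomp hinj hsurj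
  obtain ⟨R, _, _, _, f₁, f₂, hf⟩ := exists_common g π hπ hπi hπs
  have hrad : ∀ a ∈ maximalIdeal A, a ∈ (Ideal.span (Set.range g)).radical := fun a ha =>
    Ideal.le_radical (hI.ge ha)
  haveI := hfin'
  haveI := het'
  haveI : Algebra.Etale A' (A' ⊗[A] B) := Algebra.Etale.of_equiv eB.symm
  haveI : Algebra.Etale A B := Algebra.Etale.of_etale_tensorProduct_of_faithfullyFlat A'
  have hB : FEt.prop (sp A B) := fet_sp_iff.2 ⟨inferInstance, inferInstance⟩
  have hR : EtOff A R := fun a ha => (hf a (hrad a ha)).1.etale (hC a ha)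
  obtain ⟨e₁⟩ := nonempty_iso f₁ (fun a ha => (hf a (hrad a ha)).1) (prop_rest C hC) (prop_rest R hR)
  have hBr : FEt.prop (rest A B) := MorphismProperty.pullback_snd _ _ hB
  obtain ⟨e₂⟩ := nonempty_iso f₂ (fun a ha => (hf a (hrad a ha)).2) hBr (prop_rest R hR)
  exact ⟨MorphismProperty.Over.mk ⊤ (sp A B) hB,
    ⟨MorphismProperty.Over.isoMk (Iso.refl _) (Category.id_comp _) ≪≫ e₂.symm ≪≫ e₁ ≪≫ eV⟩⟩

end Groth.Agent.P1Glue
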